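import Groth.Agent.TorsDesc95.Basic

/-!
The Tate module over an algebraically closed extension `K` of the base field detects divisibility
of homomorphisms of abelian varieties.
-/

set_option autoImplicit false
set_option linter.style.haveILetI false
set_option backward.isDefEq.respectTransparency.types false

noncomputable section

universe u

open CategoryTheory CategoryTheory.Limits MonoidalCategory CartesianMonoidalCategory MonObj GrpObj AlgebraicGeometry

namespace Groth.Agent.TorsDesc24

open TorsDesc95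

variable {k : Type u} [Field k] (K : Type u) [Field K] [Algebra k K]

/-- the structure map of `Spec K` -/
abbrev toK : Spec (CommRingCat.of K) ⟶ Spec (CommRingCat.of k) :=
  Spec.map (CommRingCat.ofHom (algebraMap k K))

/-- `Spec K` over `k` -/
abbrev PtK : Over (Spec (CommRingCat.of k)) := Over.mk (toK (k := k) K)

variable {A B : Over (Spec (CommRingCat.of k))} [GrpObj A] [GrpObj B]
variable [IsProper A.hom] [GeometricallyIntegral A.hom] [IsCommMonObj A] [IsAlgClosed K]

theorem exists_root (N : ℕ) (hN : (N : k) ≠ 0) (y : PtK K ⟶ A) : ∃ x : PtK K ⟶ A, x ^ N = y := by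
  haveI := surjective_pow (A := A) N hN
  let m := (𝟙 A ^ N : A ⟶ A)
  haveI : IsProper m.left := isProper_pow N
  let P := pullback m.left y.left
  let q : P ⟶ Spec (CommRingCat.of K) := pullback.snd m.left y.left
  haveI : IsProper q := MorphismProperty.pullback_snd (P := @IsProper) _ _ inferInstance
  haveI : Surjective q := MorphismProperty.pullback_snd (P := @Surjective) _ _ inferInstance
  haveI := LocallyOfFiniteType.jacobsonSpace q
  obtain ⟨z₀, -⟩ := q.surjective (IsLocalRing.closedPoint K)
  obtain ⟨z, -, hz⟩ := nonempty_inter_closedPoints ((⟨z₀, trivial⟩ : (Set.univ : Set P).Nonempty))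
    (isClosed_univ (X := P)).isLocallyClosed
  let x : PtK K ⟶ A := Over.homMk (pointOfClosedPoint q z hz ≫ pullback.fst _ _) (by
    show _ = toK K
    rw [Category.assoc, ← Over.w m, pullback.condition_assoc, Over.w y]
    exact pointOfClosedPoint_comp_assoc _ _ _ _)
  refine ⟨x, ?_⟩
  rw [← TorsDesc95.comp_pow]
  apply Over.OverMorphism.ext
  show (pointOfClosedPoint q z hz ≫ pullback.fst _ _) ≫ m.left = y.left
  rw [Category.assoc, pullback.condition, ← Category.assoc, pointOfClosedPoint_comp, Category.id_comp]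

theorem exists_tateMod [IsCommMonObj B] (l : ℕ) [Fact l.Prime] (hl : (l : k) ≠ 0) (n : ℕ) (a : PtK K ⟶ A)
    (ha : a ^ (l ^ n) = 1) :
    ∃ x : AbDual.TateMod A l (PtK K), (x : ℕ → Additive (PtK K ⟶ A)) n = Additive.ofMul a := by
  choose root hroot using exists_root (A := A) K l hl
  let r : ℕ → (PtK K ⟶ A) := fun j => Nat.rec a (fun _ p => root p) j
  have hr : ∀ j, r (j + 1) ^ l = r j := fun j => hroot _
  let x : ℕ → Additive (PtK K ⟶ A) := fun m => Additive.ofMul (r (m - n) ^ (l ^ (n - m)))
  have hstep : ∀ m, l • x (m + 1) = x m := fun m => by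
    show Additive.ofMul ((r (m + 1 - n) ^ (l ^ (n - (m + 1)))) ^ l) = Additive.ofMul _
    congr 1
    rw [← pow_mul]
    rcases Nat.lt_or_ge m n with h | h
    · rw [show m + 1 - n = 0 by omega, show m - n = 0 by omega, show n - m = (n - (m + 1)) + 1 by omega,
        pow_succ]
    · rw [show n - (m + 1) = 0 by omega, show n - m = 0 by omega, show m + 1 - n = m - n + 1 by omega,
        pow_zero, pow_one, Nat.one_mul, hr]
  have h0 : x 0 = 0 := by
    show Additive.ofMul (r (0 - n) ^ (l ^ (n - 0))) = 0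
    rw [Nat.zero_sub, Nat.sub_zero]
    exact congrArg Additive.ofMul ha
  have htors : ∀ m, (l ^ m) • x m = 0 := by
    intro m
    induction m with
    | zero => rw [pow_zero, one_smul, h0]
    | succ m ih => rw [pow_succ, mul_smul, hstep, ih]
  refine ⟨⟨x, htors, hstep⟩, ?_⟩
  show Additive.ofMul (r (n - n) ^ (l ^ (n - n))) = _
  rw [Nat.sub_self, pow_zero, pow_one]
  rfl

variable [IsProper B.hom]

/-- a homomorphism killing the `N`-torsion `K`-points factors through `N` -/
theorem exists_factor (N : ℕ) (hN : (N : k) ≠ 0) (φ : A ⟶ B) [IsMonHom φ]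
    (hφ : ∀ a : PtK K ⟶ A, a ^ N = 1 → a ≫ φ = 1) :
    ∃ φ' : A ⟶ B, IsMonHom φ' ∧ φ = (𝟙 A ^ N) ≫ φ' := by
  haveI := smooth_hom A
  haveI := etale_pow (A := A) N hN
  haveI := isProper_pow (A := A) N
  haveI := surjective_pow (A := A) N hN
  let m : A ⟶ A := 𝟙 A ^ N
  let Kr := pullback m.left η[A].left
  let p : Kr ⟶ A.left := pullback.fst m.left η[A].left
  let q : Kr ⟶ Spec (CommRingCat.of k) := pullback.snd m.left η[A].left
  haveI : Etale q := inferInstanceAs (Etale (pullback.snd m.left η[A].left))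
  have hpq : p ≫ A.hom = q := by
    rw [← Over.w m, pullback.condition_assoc]
    refine (congrArg _ (Over.w η[A])).trans (Category.comp_id _)
  let KrK := pullback q (toK K)
  let π : KrK ⟶ Kr := pullback.fst q (toK K)
  let qK : KrK ⟶ Spec (CommRingCat.of K) := pullback.snd q (toK K)
  haveI : Surjective (toK (k := k) K) := ⟨fun z => ⟨IsLocalRing.closedPoint K,
    Subsingleton.elim (α := PrimeSpectrum k) _ _⟩⟩
  haveI : Etale qK := MorphismProperty.pullback_snd (P := @Etale) _ _ inferInstance
  haveI : Surjective π := MorphismProperty.pullback_fst (P := @Surjective) _ _ inferInstance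
  haveI : IsReduced Kr := AlgGrp79.isReduced_of_smooth q
  haveI : IsReduced KrK := AlgGrp79.isReduced_of_smooth qK
  haveI := LocallyOfFiniteType.jacobsonSpace qK
  have hkey : p ≫ φ.left = q ≫ η[B].left := by
    have hw : (p ≫ φ.left) ≫ B.hom = (q ≫ η[B].left) ≫ B.hom := by
      rw [Category.assoc, Over.w, hpq, Category.assoc]
      exact ((congrArg _ (Over.w η[B])).trans (Category.comp_id _)).symm
    refine ext_of_isDominant_of_isSeparated B.hom hw π ?_
    refine ext_of_fromSpecResidueField_eq _ _ B.hom (closedPoints KrK) ?_ ?_ ?_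
    · rw [dense_iff_closure_eq, closure_closedPoints]
    · intro x hx
      rw [← cancel_epi (Spec.map (residueFieldIsoBase qK x hx).hom)]
      let s := pointOfClosedPoint qK x hx
      show s ≫ π ≫ p ≫ φ.left = s ≫ π ≫ q ≫ η[B].left
      have hs : s ≫ π ≫ q = toK K := by
        rw [pullback.condition]
        exact pointOfClosedPoint_comp_assoc _ _ _ _
      let a : PtK K ⟶ A := Over.homMk (s ≫ π ≫ p) (by
        show _ = toK K
        simp only [Category.assoc, hpq]
        exact hs)
      have ha : a ^ N = 1 := by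
        rw [← TorsDesc95.comp_pow]
        apply Over.OverMorphism.ext
        show (s ≫ π ≫ p) ≫ m.left = _
        rw [Category.assoc, Category.assoc, pullback.condition, ← Category.assoc π, ← Category.assoc s, hs,
          Hom.one_def, Over.comp_left, Over.toUnit_left]
        rfl
      have h1 := congr(($(hφ a ha)).left)
      rw [Over.comp_left, Hom.one_def, Over.comp_left, Over.toUnit_left] at h1
      rw [← Category.assoc π q, ← Category.assoc s (π ≫ q), hs]
      exact ((Category.assoc s (π ≫ p) φ.left).trans (congrArg (s ≫ ·) (Category.assoc _ _ _))).symm.trans h1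
    · simp only [Category.assoc] at hw ⊢
      rw [hw]
  have hdesc : ∀ {Z : Scheme.{u}} (g₁ g₂ : Z ⟶ A.left),
      g₁ ≫ m.left = g₂ ≫ m.left → g₁ ≫ φ.left = g₂ ≫ φ.left := by
    intro Z g₁ g₂ h
    have hA : g₂ ≫ A.hom = g₁ ≫ A.hom := by
      rw [← Over.w m, ← Category.assoc, ← h, Category.assoc]
    let a₁ : Over.mk (g₁ ≫ A.hom) ⟶ A := Over.homMk g₁ rfl
    let a₂ : Over.mk (g₁ ≫ A.hom) ⟶ A := Over.homMk g₂ hA
    have hm : a₁ ^ N = a₂ ^ N := by
      exact (TorsDesc95.comp_pow a₁ N).symm.trans ((Over.OverMorphism.ext h : a₁ ≫ m = a₂ ≫ m).trans (TorsDesc95.comp_pow a₂ N))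
    let d := a₁⁻¹ * a₂
    have hd : d ≫ m = toUnit _ ≫ η[A] := by
      rw [TorsDesc95.comp_pow, mul_pow, inv_pow, hm, inv_mul_cancel]
      rfl
    have hd' : d.left ≫ m.left = (g₁ ≫ A.hom) ≫ η[A].left := by
      have := congrArg CommaMorphism.left hd
      simp only [Over.comp_left, Over.toUnit_left] at this
      exact this
    have hdφ : d ≫ φ = 1 := by
      apply Over.OverMorphism.ext
      have e : d.left = pullback.lift d.left (g₁ ≫ A.hom) hd' ≫ p := (pullback.lift_fst _ _ _).symm
      rw [Over.comp_left, e, Category.assoc, hkey, ← Category.assoc, pullback.lift_snd, Hom.one_def,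
        Over.comp_left, Over.toUnit_left]
      rfl
    rw [MonObj.mul_comp, GrpObj.inv_comp, inv_mul_eq_one] at hdφ
    exact congrArg CommaMorphism.left hdφ
  let g := EffectiveEpi.desc m.left φ.left hdesc
  have hg : m.left ≫ g = φ.left := EffectiveEpi.fac m.left φ.left hdesc
  have hgw : g ≫ B.hom = A.hom := by
    rw [← cancel_epi m.left, ← Category.assoc, hg, Over.w, Over.w]
  let φ' : A ⟶ B := Over.homMk g hgw
  have hfac : φ = m ≫ φ' := Over.OverMorphism.ext hg.symm
  have hone : η[A] ≫ φ' = η[B] := by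
    have h : η[A] ≫ m = η[A] := by
      rw [TorsDesc95.comp_pow, show (η[A] : 𝟙_ _ ⟶ A) = 1 by simp [Hom.one_def], one_pow]
    rw [← h, Category.assoc, ← hfac, IsMonHom.one_hom]
  haveI : GeometricallyConnected A.hom :=
    FBase64.geometricallyConnected_of_geometricallyIrreducible A.hom
  haveI : LocallyOfFinitePresentation B.hom :=
    LocallyOfFinitePresentation.iff_locallyOfFiniteType.2 inferInstance
  exact ⟨φ', Rig93.isMonHom_general A B φ' hone, hfac⟩

theorem main [IsCommMonObj B] (l : ℕ) [Fact l.Prime] (hl : (l : k) ≠ 0) (φ : A ⟶ B) [IsMonHom φ]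
    (n : ℕ) (u : AbDual.TateMod A l (PtK K) →ₗ[ℤ_[l]] AbDual.TateMod B l (PtK K))
    (hu : AbDual.tateMapₗ (l := l) (T := PtK K) φ = ((l : ℤ_[l]) ^ n) • u) :
    ∃ φ' : A ⟶ B, IsMonHom φ' ∧ φ = (𝟙 A ^ (l ^ n)) ≫ φ' := by
  refine exists_factor K (l ^ n) (by push_cast; exact pow_ne_zero n hl) φ fun a ha => ?_
  obtain ⟨x, hx⟩ := exists_tateMod (B := B) K l hl n a ha
  have h1 : AbDual.TateMod.component B l (PtK K) n (AbDual.tateMapₗ φ x) = 0 := by
    rw [hu, LinearMap.smul_apply, show ((l : ℤ_[l]) ^ n) = ((l ^ n : ℕ) : ℤ_[l]) by push_cast; rfl,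
      Nat.cast_smul_eq_nsmul, map_nsmul]
    exact (u x).2.1 n
  have h2 : Additive.ofMul ((Additive.toMul ((x : ℕ → Additive (PtK K ⟶ A)) n)) ≫ φ) = 0 := h1
  rw [hx] at h2
  exact h2

end Groth.Agent.TorsDesc24
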